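import Groth.Agent.VBLib.Regular
import Groth.Agent.SchDenseLib.Basic
import Groth.Agent.FibreComp.DimSpace
import Groth.Agent.IdealStalkLib.Comap
import Mathlib.AlgebraicGeometry.Morphisms.SchemeTheoreticallyDominant
import Mathlib.RingTheory.Flat.TorsionFree

/-!
Flat closures over a base all of whose local rings are principal ideal rings.
-/

set_option autoImplicit false
set_option backward.isDefEq.respectTransparency false
set_option backward.defeqAttrib.useBackward true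
set_option linter.style.haveILetI false

universe u

open CategoryTheory CategoryTheory.Limits AlgebraicGeometry TopologicalSpace Opposite

noncomputable section

namespace Groth.Agent.FlatExt

variable {Y : Scheme.{u}} [IsIntegral Y]

theorem flat_iff_torsionFree (hY : ∀ y : Y, IsPrincipalIdealRing (Y.presheaf.stalk y)) (W : Y.affineOpens)
    [Nonempty W.1] (M : Type u) [AddCommGroup M] [Module Γ(Y, W.1) M] :
    Module.Flat Γ(Y, W.1) M ↔ Submodule.torsion Γ(Y, W.1) M = ⊥ := by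
  refine Module.Flat.flat_iff_torsion_eq_bot_of_valuationRing_localization_isMaximal fun P _ => ?_
  let y := W.2.fromSpec ⟨P, inferInstance⟩
  have hy : y ∈ W.1 := W.2.range_fromSpec.le ⟨_, rfl⟩
  letI := TopCat.Presheaf.algebra_section_stalk Y.presheaf (⟨y, hy⟩ : W.1)
  haveI h1 := W.2.isLocalization_stalk' ⟨P, inferInstance⟩ hy
  let e : Localization P.primeCompl ≃ₐ[Γ(Y, W.1)] Y.presheaf.stalk y :=
    IsLocalization.algEquiv P.primeCompl _ _
  haveI := hY y
  haveI : IsPrincipalIdealRing (Localization P.primeCompl) :=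
    IsPrincipalIdealRing.of_surjective e.symm.toRingEquiv.toRingHom e.symm.surjective
  infer_instance

/-- The closure of a flat family is flat. -/
theorem flat_imageι (hY : ∀ y : Y, IsPrincipalIdealRing (Y.presheaf.stalk y)) {X P : Scheme.{u}}
    (p : P ⟶ Y) (e : X ⟶ P) [QuasiCompact e] [Flat (e ≫ p)] : Flat (e.imageι ≫ p) := by
  haveI : IsSchemeTheoreticallyDominant e.toImage := SchDenseLib.toImage_dominant e
  let g := e.imageι ≫ p
  rw [HasRingHomProperty.iff_appLE (P := @Flat)]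
  intro W V hVW
  letI := (g.appLE W.1 V.1 hVW).hom.toAlgebra
  show Module.Flat Γ(Y, W.1) Γ(e.image, V.1)
  rcases isEmpty_or_nonempty W.1 with hW | hW
  · haveI : IsEmpty V.1 := ⟨fun v => hW.false ⟨g v.1, hVW v.2⟩⟩
    haveI : Subsingleton Γ(e.image, V.1) := by
      have : V.1 = ⊥ := Opens.ext (Set.isEmpty_coe_sort.1 ‹IsEmpty V.1›)
      rw [this]
      infer_instance
    infer_instance
  rw [flat_iff_torsionFree hY W]
  refine (Submodule.eq_bot_iff _).2 ?_
  rintro x ⟨⟨a, ha⟩, hax⟩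
  apply e.toImage.app_injective V.1
  rw [map_zero]
  refine TopCat.Sheaf.eq_of_locally_eq' X.sheaf (fun O : {O : X.affineOpens // O.1 ≤ e.toImage ⁻¹ᵁ V.1} => O.1.1)
    (e.toImage ⁻¹ᵁ V.1) (fun O => homOfLE O.2) (fun z hz => ?_) _ _ fun O => ?_
  · obtain ⟨_, ⟨O, hO, rfl⟩, hzO, hOV⟩ := X.isBasis_affineOpens.exists_subset_of_mem_open hz (e.toImage ⁻¹ᵁ V.1).2
    exact Opens.mem_iSup.2 ⟨⟨⟨O, hO⟩, hOV⟩, hzO⟩
  · have hh : e.toImage ≫ g = e ≫ p := by rw [← Category.assoc, Scheme.Hom.toImage_imageι]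
    have eO : O.1.1 ≤ (e ≫ p) ⁻¹ᵁ W.1 := by
      rw [← hh]; exact O.2.trans ((Opens.map e.toImage.base).map (homOfLE hVW)).le
    letI := ((e ≫ p).appLE W.1 O.1.1 eO).hom.toAlgebra
    haveI : Module.Flat Γ(Y, W.1) Γ(X, O.1.1) := (e ≫ p).flat_appLE W.2 O.1.2 eO
    let r : Γ(e.image, V.1) →+* Γ(X, O.1.1) := (e.toImage.appLE V.1 O.1.1 O.2).hom
    have hr : r (g.appLE W.1 V.1 hVW a) = algebraMap Γ(Y, W.1) Γ(X, O.1.1) a := by
      show (g.appLE W.1 V.1 hVW ≫ e.toImage.appLE V.1 O.1.1 O.2) a = _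
      rw [Scheme.Hom.appLE_comp_appLE]
      show ((e.toImage ≫ g).appLE W.1 O.1.1 _).hom a = ((e ≫ p).appLE W.1 O.1.1 eO).hom a
      simp only [hh]
    have h0 : a • r x = 0 := by
      rw [Algebra.smul_def, ← hr, ← map_mul, show g.appLE W.1 V.1 hVW a * x = a • x from (Algebra.smul_def _ _).symm]
      exact (congrArg r hax).trans (map_zero r)
    show (X.presheaf.map (homOfLE O.2).op) (e.toImage.app V.1 x) = (X.presheaf.map (homOfLE O.2).op) 0
    rw [map_zero]
    exact (smul_eq_zero.1 h0).resolve_left (nonZeroDivisors.ne_zero ha)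

/-- The unique flat extension from a dense open. -/
theorem exists_unique_extension [IsLocallyNoetherian Y] (hY : ∀ y : Y, IsPrincipalIdealRing (Y.presheaf.stalk y))
    (U : Y.Opens) [Nonempty U] {P : Scheme.{u}} (p : P ⟶ Y) (X : Scheme.{u}) (i : X ⟶ ↑(p ⁻¹ᵁ U))
    [IsClosedImmersion i] [Flat (i ≫ (p ⁻¹ᵁ U).ι ≫ p)] :
    ∃ (X' : Scheme.{u}) (i' : X' ⟶ P) (j : X ⟶ X'),
      IsClosedImmersion i' ∧ Flat (i' ≫ p) ∧ IsPullback j i i' (p ⁻¹ᵁ U).ι ∧
      ∀ (X'' : Scheme.{u}) (i'' : X'' ⟶ P) (j'' : X ⟶ X''),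
        IsClosedImmersion i'' → Flat (i'' ≫ p) → IsPullback j'' i i'' (p ⁻¹ᵁ U).ι →
        ∃ e : X' ≅ X'', e.hom ≫ i'' = i' := by
  let V := p ⁻¹ᵁ U
  haveI : QuasiCompact U.ι := inferInstance
  haveI : QuasiCompact V.ι :=
    MorphismProperty.of_isPullback (isPullback_morphismRestrict p U) ‹QuasiCompact U.ι›
  haveI : IsDominant U.ι := ⟨by
    rw [denseRange_iff_closure_range, Scheme.Opens.range_ι]
    exact (U.2.dense (Set.nonempty_coe_sort.1 ‹Nonempty U›)).closure_eq⟩
  haveI : IsSchemeTheoreticallyDominant U.ι := .of_isDominant _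
  let e := i ≫ V.ι
  haveI : Flat (e ≫ p) := by rw [Category.assoc]; infer_instance
  refine ⟨e.image, e.imageι, e.toImage, inferInstance, flat_imageι hY p e, ?_, ?_⟩
  · refine (isPullback_of_isClosedImmersion i e.imageι e.toImage V.ι e.toImage_imageι.symm ?_).flip
    haveI : QuasiCompact e := inferInstance
    refine Scheme.IdealSheafData.ext (funext fun W => ?_)
    rw [Scheme.IdealSheafData.ker_subschemeι]
    have hW : IsAffineOpen (V.ι ''ᵁ W.1) := W.2.image_of_isOpenImmersion _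
    have h1 : V.ι ''ᵁ W.1 = V.ι ''ᵁ W.1 := rfl
    rw [IdealStalkLib.comap_ideal e.ker V.ι hW W.2 (by rw [Scheme.Hom.preimage_image_eq]),
      Scheme.Hom.ker_apply, Scheme.Hom.ker_apply]
    have h2 : V.ι ⁻¹ᵁ (V.ι ''ᵁ W.1) = W.1 := V.ι.preimage_image_eq W.1
    let r := V.ι.appLE (V.ι ''ᵁ W.1) W.1 h2.ge
    have hr : Function.Bijective r := by
      haveI : IsIso r := by
        show IsIso (V.ι.appLE (V.ι ''ᵁ W.1) W.1 h2.ge)
        rw [← Scheme.Hom.appIso_hom']
        infer_instance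
      exact ConcreteCategory.bijective_of_isIso r
    have h3 : ∀ z, e.app (V.ι ''ᵁ W.1) z = 0 ↔ i.app W.1 (r z) = 0 := fun z => by
      have h4 : e ⁻¹ᵁ (V.ι ''ᵁ W.1) = i ⁻¹ᵁ W.1 := by rw [Scheme.Hom.comp_preimage, h2]
      have h5 : (e.appLE (V.ι ''ᵁ W.1) (i ⁻¹ᵁ W.1) h4.ge) z = i.app W.1 (r z) := by
        rw [Scheme.Hom.app_eq_appLE]
        show _ = (V.ι.appLE _ W.1 h2.ge ≫ i.appLE W.1 _ le_rfl) z
        rw [Scheme.Hom.appLE_comp_appLE]
      rw [← h5]
      haveI : IsIso (X.presheaf.map (homOfLE h4.ge).op) := by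
        rw [show homOfLE h4.ge = eqToHom h4.symm from Subsingleton.elim _ _]; infer_instance
      show _ ↔ (X.presheaf.map (homOfLE h4.ge).op) (e.app (V.ι ''ᵁ W.1) z) = 0
      exact (map_eq_zero_iff _ (ConcreteCategory.bijective_of_isIso (X.presheaf.map (homOfLE h4.ge).op)).1).symm
    refine le_antisymm (Ideal.map_le_iff_le_comap.2 fun z hz => (h3 z).1 hz) fun z hz => ?_
    obtain ⟨z', rfl⟩ := hr.2 z
    exact Ideal.mem_map_of_mem _ ((h3 z').2 hz)
  · intro X'' i'' j'' hi hf hpb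
    haveI := hf
    let q := i'' ≫ p
    have hb : IsPullback j'' (i ≫ p ∣_ U) q U.ι :=
      hpb.paste_vert (isPullback_morphismRestrict p U).flip
    haveI : IsSchemeTheoreticallyDominant j'' := IsSchemeTheoreticallyDominant.of_isPullback hb.flip
    haveI : QuasiCompact j'' := MorphismProperty.of_isPullback hb.flip ‹QuasiCompact U.ι›
    have hker : i''.ker = e.ker := by
      show _ = (i ≫ V.ι).ker
      rw [← hpb.w, Scheme.Hom.ker_comp, Scheme.Hom.ker_eq_bot j'', Scheme.IdealSheafData.map_bot]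
    have hk : i''.ker = e.imageι.ker := by rw [hker, Scheme.IdealSheafData.ker_subschemeι]
    let l := IsClosedImmersion.lift i'' e.imageι hk.le
    have hl : l ≫ i'' = e.imageι := IsClosedImmersion.lift_fac _ _ _
    haveI : IsIso l := IsClosedImmersion.isIso_of_ker_eq e.imageι i'' l hl hk.symm
    exact ⟨asIso l, hl⟩

end Groth.Agent.FlatExt
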